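import Cfsg.Agent.Lib.Recog.UFourSylow.Block.Coeff
import Cfsg.Agent.Lib.Recog.UFourSylow.Cert.Main
import Mathlib.Data.Nat.GCD.BigOperators

set_option autoImplicit false

/-!
Some nontrivial character of the principal block has degree less than its value at an involution plus `32`
(owner: helper25): the block gives the data of the certificate.
-/

namespace CfsgLib.Recog.UFourSylow.Block

open Cfsg CfsgLib CfsgLib.Char CfsgLib.CharIntegral CfsgLib.Blocks
open scoped Classical ComplexConjugate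

variable {G : Type*} [Group G] [Fintype G] {t x : G} {S A E : Subgroup G}
  {N : Subgroup (Subgroup.centralizer ({t} : Set G))} {f : Subgroup.centralizer ({t} : Set G)} [N.Normal]

/-- An exponent prime to the order which is two modulo five. -/
theorem exists_twist {n : ℕ} (h5 : 5 ∣ n) (hn : n ≠ 0) : ∃ k : ℕ, k.Coprime n ∧ k % 5 = 2 := by
  obtain ⟨a, m, hm, rfl⟩ := Nat.exists_eq_pow_mul_and_not_dvd hn 5 (by norm_num)
  have hc : Nat.Coprime (5 ^ a) m := ((Nat.prime_five.coprime_iff_not_dvd).2 hm).pow_left a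
  obtain ⟨k, hk1, hk2⟩ := Nat.chineseRemainder hc 2 1
  refine ⟨k, ?_, ?_⟩
  · refine Nat.Coprime.mul_right ?_ ?_
    · rw [Nat.Coprime, Nat.ModEq.gcd_eq hk1]
      exact Nat.Coprime.pow_right a (by norm_num : Nat.Coprime 2 5)
    · rw [Nat.Coprime, Nat.ModEq.gcd_eq hk2, Nat.gcd_one_left]
  · rcases a with _ | a
    · rw [pow_zero, one_mul] at h5
      exact absurd h5 hm
    · have h : k % 5 = 2 % 5 := hk1.of_dvd (dvd_pow_self 5 (Nat.succ_ne_zero a))
      omega

variable (L : Loc t x S A E N f) {M : Ideal AlgInt} [M.IsPrime] (hM : IsPModular 2 M)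
include L hM

/-- **The degree bound of the case fifteen.** -/
theorem Loc.exists_small
    (hfaith : ∀ χ : IrrCharacter G, χ ∈ principalBlock M G → χ ≠ trivChar G → (χ : G → ℂ) t ≠ (χ : G → ℂ) 1) :
    ∃ χ : IrrCharacter G, χ ∈ principalBlock M G ∧ χ ≠ trivChar G ∧ ∃ d T : ℤ,
      (χ : G → ℂ) 1 = d ∧ (χ : G → ℂ) t = T ∧ T ≠ d ∧ d < T + 32 ∧ T ≤ 0 := by
  choose T b d hT hb hd using L.exists_int
  have hint : ∀ (χ : IrrCharacter G) (k : ℕ), ∃ z : ℤ, χ ∈ B0 M G → cc t x χ + Fk f χ k / 5 = z := fun χ k => by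
    by_cases h : χ ∈ B0 M G
    · obtain ⟨z, hz⟩ := L.exists_int_coeff hM h k
      exact ⟨z, fun _ => hz⟩
    · exact ⟨0, fun h' => absurd h' h⟩
  choose z hz0 using hint
  have hz : ∀ χ ∈ B0 M G, ∀ k, cc t x χ + Fk f χ k / 5 = z χ k := fun χ hχ k => hz0 χ k hχ
  have h5 : 5 ∣ Nat.card G := L.five_dvd_orderOf_f.trans
    (by rw [← Subgroup.orderOf_coe]; exact orderOf_dvd_natCard _)
  obtain ⟨k, hk, hk2⟩ := exists_twist h5 Nat.card_pos.ne'
  have h2 : 2 ∣ Nat.card G := L.orderOf_t ▸ orderOf_dvd_natCard t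
  have hk1 : k % 2 = 1 := by
    by_contra h
    have := Nat.dvd_gcd (show 2 ∣ k by omega) h2
    rw [hk] at this
    omega
  -- the twist
  have hσmem : ∀ χ, χ ∈ B0 M G → powTwist hk χ ∈ B0 M G := fun χ hχ =>
    mem_B0.2 (powTwist_mem_principalBlock hM hk (mem_B0.1 hχ))
  let σ : {χ // χ ∈ B0 M G} ≃ {χ // χ ∈ B0 M G} :=
    Equiv.ofBijective (fun χ => ⟨powTwist hk χ.1, hσmem _ χ.2⟩)
      (Finite.injective_iff_bijective.1 fun a c h => Subtype.ext (powTwist_injective hk (congrArg Subtype.val h)))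
  have hσg : ∀ χ ∈ B0 M G, ∀ j, gv f (powTwist hk χ) j = gv f χ (2 * j % 5) := fun χ hχ j => by
    have e : gv f (powTwist hk χ) j = gv f χ (j * k) := by
      simp only [gv, powTwist_apply, Subgroup.coe_pow]
      rw [(L.commute_f.pow_right j).mul_pow, pow_eq_pow_mod k (show t ^ 2 = 1 by rw [pow_two, L.t_mul_t]), hk1,
        pow_one, ← pow_mul]
    rw [e, L.gv_periodic hM hχ, Nat.mul_mod, hk2, Nat.mod_mul_mod, mul_comm]
  have hσT : ∀ χ, T (powTwist hk χ) = T χ := fun χ => by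
    rw [← Int.cast_inj (α := ℂ), ← hT, ← hT, powTwist_apply,
      pow_eq_pow_mod k (show t ^ 2 = 1 by rw [pow_two, L.t_mul_t]), hk1, pow_one]
  have hσb : ∀ χ, b (powTwist hk χ) = b χ := fun χ => by
    have h4 : x ^ 4 = 1 := by rw [← L.orderOf_x, pow_orderOf_eq_one]
    rw [← Int.cast_inj (α := ℂ), ← hb, ← hb, powTwist_apply, pow_eq_pow_mod k h4]
    rcases (by omega : k % 4 = 1 ∨ k % 4 = 3) with e | e <;> rw [e]
    · rw [pow_one]
    · rw [show x ^ 3 = x⁻¹ from eq_inv_of_mul_eq_one_left (by rw [← pow_succ]; exact h4)]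
      exact Char.isClassFunction_iff_isConj.1 (IsIrr.isClassFunction χ.2) _ _ L.conj_inv.symm
  have hσd : ∀ χ, d (powTwist hk χ) = d χ := fun χ => by
    rw [← Int.cast_inj (α := ℂ), ← hd, ← hd, powTwist_apply, one_pow]
  have hσz : ∀ χ ∈ B0 M G, ∀ i j, i < 5 → j = 3 * i % 5 → z (powTwist hk χ) i = z χ j := fun χ hχ i j hi hj => by
    rw [← Int.cast_inj (α := ℂ), ← hz _ (hσmem χ hχ), ← hz χ hχ]
    congr 1
    · rw [cc, cc, hT, hT, hb, hb, hσT, hσb]
    · congr 1
      subst hj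
      interval_cases i <;>
        (simp only [Fk, Finset.sum_range_succ, Finset.sum_range_zero, hσg χ hχ, Nat.reduceMul, Nat.reduceMod, zero_add,
          omega_mod (2 * 4), omega_mod (3 * 2), omega_mod (3 * 3), omega_mod (4 * 3),
          omega_mod (4 * 4)]; ring)
  have htot : ∀ χ ∈ B0 M G, 5 * b χ - 4 * (z χ 0 + z χ 1 + z χ 2 + z χ 4 + z χ 3) = T χ := fun χ hχ => by
    have hs : Fk f χ 0 + Fk f χ 1 + Fk f χ 2 + Fk f χ 4 + Fk f χ 3 = 5 * (T χ : ℂ) := by
      have e : Fk f χ 0 + Fk f χ 1 + Fk f χ 2 + Fk f χ 4 + Fk f χ 3 = ∑ l ∈ Finset.range 5, Fk f χ l := by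
        simp only [Finset.sum_range_succ, Finset.sum_range_zero]; ring
      rw [e]
      simp only [Fk]
      rw [Finset.sum_comm, Finset.sum_eq_single 0 (fun j hj h0 => ?_) (by simp)]
      · simp [L.gv_zero, hT, mul_comm]
      · simp only [mul_comm j, ← Finset.mul_sum, sum_omega]
        rw [if_neg fun h => h0 ?_, mul_zero]
        have := Finset.mem_range.1 hj
        omega
    rw [← Int.cast_inj (α := ℂ)]
    push_cast
    simp only [← hz χ hχ, cc, hT, hb]
    linear_combination (-(4 : ℂ) / 5) * hs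
  have hmem : trivChar G ∈ B0 M G := mem_B0.2 trivChar_mem_principalBlock
  have one1 : ∀ g : G, ((trivChar G : IrrCharacter G) : G → ℂ) g = 1 := fun g => trivChar_apply g
  have hT1 : T (trivChar G) = 1 := by rw [← Int.cast_inj (α := ℂ), ← hT, one1, Int.cast_one]
  have hb1 : b (trivChar G) = 1 := by rw [← Int.cast_inj (α := ℂ), ← hb, one1, Int.cast_one]
  have hd1 : d (trivChar G) = 1 := by rw [← Int.cast_inj (α := ℂ), ← hd, one1, Int.cast_one]
  have hz1 : ∀ l, z (trivChar G) l = if 5 ∣ l then 1 else 0 := fun l => by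
    rw [← Int.cast_inj (α := ℂ), ← hz _ hmem, cc, Fk, one1, one1]
    simp only [gv, one1, one_mul]
    rw [sum_omega]
    split_ifs <;> norm_num
  obtain ⟨r, hr, hrec⟩ := L.exists_rec_coeff hM
  have hrecz : ∀ l, ∑ χ ∈ B0 M G, ((T χ ^ 2 * z χ l : ℤ) : ℚ) / (d χ : ℚ) = -r / 20 := fun l => by
    have h := hrec l
    rw [Finset.sum_congr rfl fun χ hχ => by rw [hz χ hχ l]] at h
    simp only [hT, hd] at h
    apply Rat.cast_injective (α := ℂ)
    rw [Rat.cast_sum, Rat.cast_div, Rat.cast_neg, Rat.cast_ofNat, ← h]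
    refine Finset.sum_congr rfl fun χ _ => ?_
    push_cast
    ring
  have hrecb : ∑ χ ∈ B0 M G, ((T χ ^ 2 * b χ : ℤ) : ℚ) / (d χ : ℚ) = 0 := by
    have h := L.rec_x hM
    simp only [hT, hd, hb] at h
    apply Rat.cast_injective (α := ℂ)
    rw [Rat.cast_sum, Rat.cast_zero, ← h]
    refine Finset.sum_congr rfl fun χ _ => ?_
    push_cast
    ring
  have hbd : ∑ χ ∈ B0 M G, b χ * d χ = 0 := by
    rw [← Int.cast_inj (α := ℂ), Int.cast_sum, Int.cast_zero, ← L.bd hM]
    exact Finset.sum_congr rfl fun χ _ => by rw [hb, hd, map_intCast, Int.cast_mul]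
  have hcong : ∀ χ, (64 : ℤ) ∣ d χ + 3 * T χ - 4 * b χ ∧ 0 ≤ d χ + 3 * T χ - 4 * b χ := fun χ => by
    obtain ⟨m, hm⟩ := L.mult_sign χ
    rw [hd, hT, hb] at hm
    have e : d χ + 3 * T χ - 4 * b χ = 64 * (m : ℤ) := by exact_mod_cast hm
    exact ⟨⟨m, e⟩, by omega⟩
  have hmult : ∀ χ, 0 ≤ d χ + 3 * T χ + 60 * b χ := fun χ => by
    obtain ⟨m, hm⟩ := L.mult_triv χ
    rw [hd, hT, hb] at hm
    have e : d χ + 3 * T χ + 60 * b χ = 64 * (m : ℤ) := by exact_mod_cast hm
    omega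
  have hdpos : ∀ χ, 0 < d χ := fun χ => by
    have h := CharDegree.cast_irrDegree χ
    rw [hd] at h
    have e : d χ = (charDegree (χ : G → ℂ) : ℤ) := by exact_mod_cast h.symm
    have := CharDegree.charDegree_pos χ
    omega
  have hfa : ∀ χ, χ ∈ B0 M G → χ ≠ trivChar G → T χ + 16 ≤ d χ := fun χ hχ hne => by
    obtain ⟨m, hm⟩ := L.mult_faithful χ
    rw [hd, hT] at hm
    have e : d χ - T χ = 16 * (m : ℤ) := by exact_mod_cast hm
    have hne' : T χ ≠ d χ := fun h => hfaith χ (mem_B0.1 hχ) hne (by rw [hT, hd, h])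
    omega
  have sub : ∀ F : IrrCharacter G → ℤ, ∑ χ : {χ // χ ∈ B0 M G}, F χ.1 = ∑ χ ∈ B0 M G, F χ := fun F =>
    Finset.sum_coe_sort (B0 M G) F
  have subQ : ∀ F : IrrCharacter G → ℚ, ∑ χ : {χ // χ ∈ B0 M G}, F χ.1 = ∑ χ ∈ B0 M G, F χ := fun F =>
    Finset.sum_coe_sort (B0 M G) F
  have htot' : ∀ χ : {χ // χ ∈ B0 M G}, 5 * b χ.1 - 4 * (z χ.1 0 + z χ.1 1 + z χ.1 2 + z χ.1 4 + z χ.1 3) = T χ.1 :=
    fun χ => htot χ.1 χ.2
  let X : Cert.Fifteen {χ // χ ∈ B0 M G} :=
    { one := ⟨trivChar G, hmem⟩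
      σ := σ
      w := fun χ => ⟨z χ.1 0, z χ.1 1, z χ.1 2, z χ.1 4, z χ.1 3⟩
      b := fun χ => b χ.1
      d := fun χ => d χ.1
      σ_one := Subtype.ext (Subtype.ext (funext fun g => by
        show (trivChar G : G → ℂ) (g ^ k) = (trivChar G : G → ℂ) g
        rw [trivChar_apply, trivChar_apply]))
      σ_w := fun χ => by
        show (⟨_, _, _, _, _⟩ : Cert.Vec) = _
        simp only [Cert.Vec.rot, σ, Equiv.ofBijective_apply, hσz χ.1 χ.2 0 0 (by norm_num) rfl,
          hσz χ.1 χ.2 1 3 (by norm_num) rfl, hσz χ.1 χ.2 2 1 (by norm_num) rfl, hσz χ.1 χ.2 4 2 (by norm_num) rfl,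
          hσz χ.1 χ.2 3 4 (by norm_num) rfl]
      σ_b := fun χ => hσb χ.1
      σ_d := fun χ => hσd χ.1
      w_one := by simp only [hz1]; rfl
      b_one := hb1
      d_one := hd1
      g00 := (sub fun χ => z χ 0 * z χ 0).trans ((L.gram hM hz 0 0).trans (by norm_num))
      g11 := (sub fun χ => z χ 1 * z χ 1).trans ((L.gram hM hz 1 1).trans (by norm_num))
      g01 := (sub fun χ => z χ 0 * z χ 1).trans ((L.gram hM hz 0 1).trans (by norm_num))
      g12 := (sub fun χ => z χ 1 * z χ 2).trans ((L.gram hM hz 1 2).trans (by norm_num))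
      g13 := (sub fun χ => z χ 1 * z χ 4).trans ((L.gram hM hz 1 4).trans (by norm_num))
      gb0 := (sub fun χ => b χ * z χ 0).trans (L.b_coeff hM hb hz 0)
      gb1 := (sub fun χ => b χ * z χ 1).trans (L.b_coeff hM hb hz 1)
      gbb := (sub fun χ => b χ * b χ).trans (L.bb hM hb)
      lin0 := (sub fun χ => z χ 0 * d χ).trans (L.d_coeff hM hd hz 0)
      lin1 := (sub fun χ => z χ 1 * d χ).trans (L.d_coeff hM hd hz 1)
      linb := (sub fun χ => b χ * d χ).trans hbd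
      recb := by
        simp only [Cert.Vec.total, htot']
        exact (subQ fun χ => ((T χ ^ 2 * b χ : ℤ) : ℚ) / (d χ : ℚ)).trans hrecb
      req := by
        simp only [Cert.Vec.total, htot']
        rw [subQ fun χ => ((T χ ^ 2 * z χ 1 : ℤ) : ℚ) / (d χ : ℚ),
          subQ fun χ => ((T χ ^ 2 * z χ 0 : ℤ) : ℚ) / (d χ : ℚ), hrecz, hrecz]
      rneg := by
        simp only [Cert.Vec.total, htot']
        rw [subQ fun χ => ((T χ ^ 2 * z χ 0 : ℤ) : ℚ) / (d χ : ℚ), hrecz]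
        linarith
      cong := fun χ => by
        simp only [Cert.Vec.total, htot']
        exact (hcong χ.1).1
      dpos := fun χ => hdpos χ.1
      mult1 := fun χ => by simp only [Cert.Vec.total, htot']; exact hmult χ.1
      mult2 := fun χ => by simp only [Cert.Vec.total, htot']; exact (hcong χ.1).2
      faith := fun χ h => by
        simp only [Cert.Vec.total, htot']
        exact hfa χ.1 χ.2 fun e => h (Subtype.ext e) }
  obtain ⟨⟨χ, hχ⟩, hne, h1, h3⟩ := X.exists_small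
  have hne' : χ ≠ trivChar G := fun e => hne (Subtype.ext e)
  simp only [X, Cert.Vec.total] at h1 h3
  rw [htot χ hχ] at h1 h3
  have := hfa χ hχ hne'
  exact ⟨χ, mem_B0.1 hχ, hne', d χ, T χ, hd χ, hT χ, by omega, h1, h3⟩

end CfsgLib.Recog.UFourSylow.Block
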