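import Cfsg.Agent.Lib.Recog.UFourSylow.Block.Tools

set_option autoImplicit false

/-!
The local structure used by the principal block in the case that `N(S)/S` has odd part fifteen (owner: helper25).
-/

namespace CfsgLib.Recog.UFourSylow.Block

open Cfsg

/-- The local structure: `S` a Sylow two-subgroup with centre `E`, `N` the odd core of `C(t)`, `f` of odd order, of order five modulo `N`. -/
structure Loc {G : Type*} [Group G] (t x : G) (S A E : Subgroup G)
    (N : Subgroup (Subgroup.centralizer ({t} : Set G))) (f : Subgroup.centralizer ({t} : Set G)) [N.Normal] :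
    Prop where
  orderOf_t : orderOf t = 2
  orderOf_x : orderOf x = 4
  conj_inv : IsConj x x⁻¹
  no_inv : ∀ a : G, orderOf a = 2 → a * x * a⁻¹ ≠ x⁻¹
  pair : ∃ a b : G, IsConj t a ∧ IsConj t b ∧ a * b = t
  cent_x : ∃ K : Subgroup (Subgroup.centralizer ({x} : Set G)), K.Normal ∧ ¬ 2 ∣ Nat.card K ∧ K.index = 2 ^ 4
  card_S : Nat.card S = 64
  card_A : Nat.card A = 16
  card_E : Nat.card E = 4
  E_le : E ≤ A
  A_le : A ≤ S
  A_comm : ∀ a ∈ A, ∀ b ∈ A, a * b = b * a
  t_mem : t ∈ E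
  fused_E : ∀ e ∈ E, e ≠ 1 → IsConj t e
  fused_S : ∀ s ∈ S, s ∉ E → IsConj x s
  odd_N : ¬ 2 ∣ Nat.card N
  index_N : N.index = 320
  sylow : ∃ P : Subgroup (Subgroup.centralizer ({t} : Set G) ⧸ N), P.Normal ∧ Nat.card P = 64
  inv_central : ∀ q : Subgroup.centralizer ({t} : Set G) ⧸ N, q * q = 1 → ∀ r, Commute q r
  odd_f : ¬ 2 ∣ orderOf f
  pow_f : f ^ 5 ∈ N
  cent_f : Nat.card (Subgroup.centralizer ({QuotientGroup.mk' N f} : Set (Subgroup.centralizer ({t} : Set G) ⧸ N))) = 20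

end CfsgLib.Recog.UFourSylow.Block
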