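import Cfsg.Agent.Lib.Recog.UFourSylow.Block.Products

set_option autoImplicit false

/-!
The integer coefficients at the five vanishing characters of norm five (owner: helper25).
-/

namespace CfsgLib.Recog.UFourSylow.Block

open Cfsg CfsgLib CfsgLib.Char CfsgLib.CharIntegral CfsgLib.Blocks
open scoped Classical ComplexConjugate

variable {G : Type*} [Group G] [Fintype G] {t x : G} {S A E : Subgroup G}
  {N : Subgroup (Subgroup.centralizer ({t} : Set G))} {f : Subgroup.centralizer ({t} : Set G)} [N.Normal]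

/-- The Fourier sum at the element of order ten. -/
noncomputable def Fk {t : G} (f : Subgroup.centralizer ({t} : Set G)) (χ : IrrCharacter G) (k : ℕ) : ℂ :=
  ∑ j ∈ Finset.range 5, gv f χ j * ω ^ (j * k)

/-- Five times the coefficient is five quarters of `b - T` plus the Fourier sum. -/
noncomputable def cc (t x : G) (χ : IrrCharacter G) : ℂ := ((χ : G → ℂ) x - (χ : G → ℂ) t) / 4

theorem omega_mod (m : ℕ) : ω ^ m = ω ^ (m % 5) := pow_eq_pow_mod m omega_pow_five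

theorem conj_omega_pow (m : ℕ) : conj (ω ^ m) = ω ^ (4 * m) := by
  rw [map_pow, ← Complex.inv_eq_conj (omega_primitive.norm'_eq_one (by norm_num)), inv_pow, pow_mul,
    inv_eq_of_mul_eq_one_left]
  rw [← mul_pow, ← pow_succ, omega_pow_five, one_pow]

variable (L : Loc t x S A E N f)
include L

variable {M : Ideal AlgInt} [M.IsPrime] (hM : IsPModular 2 M)
include hM

theorem Loc.gv_periodic {χ : IrrCharacter G} (hχ : χ ∈ B0 M G) (i : ℕ) : gv f χ i = gv f χ (i % 5) := by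
  refine L.translate_eq hM hχ (L.odd_pow_f i) (L.odd_pow_f _) ?_
  rw [map_pow, map_pow, pow_eq_pow_mod i L.mk_pow_five]

/-- The coefficients are integers. -/
theorem Loc.exists_int_coeff {χ : IrrCharacter G} (hχ : χ ∈ B0 M G) (k : ℕ) :
    ∃ z : ℤ, (cc t x χ) + Fk f χ k / 5 = z := by
  obtain ⟨T, b, d, hT, hb, hd⟩ := L.exists_int χ
  obtain ⟨m1, h1⟩ := L.mult_triv χ
  obtain ⟨m2, h2⟩ := L.mult_faithful χ
  rw [hT, hb, hd] at h1
  rw [hT, hd] at h2
  have e1 : d + 3 * T + 60 * b = 64 * (m1 : ℤ) := by exact_mod_cast h1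
  have e2 : d - T = 16 * (m2 : ℤ) := by exact_mod_cast h2
  obtain ⟨q, hq⟩ : (4 : ℤ) ∣ b - T := by omega
  obtain ⟨n, hn⟩ := L.exists_int_fourier χ L.five_dvd_orderOf_f (L.gv_periodic hM hχ) k
  refine ⟨q + n, ?_⟩
  rw [cc, Fk, hn, hb, hT, show (b : ℂ) - T = ((b - T : ℤ) : ℂ) by push_cast; ring, hq]
  push_cast
  ring


theorem Loc.cc_cc : ∑ χ ∈ B0 M G, cc t x χ * conj (cc t x χ) = 21 := by
  choose T b d hT hb hd using L.exists_int
  have h1 := L.bb hM hb
  have h2 := L.gg hM (i := 0) (j := 0) (by norm_num) (by norm_num)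
  have h3 := L.gb hM 0
  simp only [if_pos rfl] at h2
  simp only [L.gv_zero, hT, hb, map_intCast] at h2 h3
  have e : ∀ χ, cc t x χ * conj (cc t x χ) =
      ((b χ * b χ : ℤ) : ℂ) / 16 - (T χ : ℂ) * (b χ : ℂ) / 8 + (T χ : ℂ) * (T χ : ℂ) / 16 := fun χ => by
    simp only [cc, hT, hb, map_div₀, map_sub, map_intCast, map_ofNat]
    push_cast
    ring
  rw [Finset.sum_congr rfl fun χ _ => e χ, Finset.sum_add_distrib, Finset.sum_sub_distrib, ← Finset.sum_div,
    ← Finset.sum_div, ← Finset.sum_div, ← Int.cast_sum, h1, h2, h3]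
  norm_num

theorem Loc.cc_gv {j : ℕ} (hj : j < 5) :
    ∑ χ ∈ B0 M G, gv f χ j * conj (cc t x χ) = if j = 0 then -80 else 0 := by
  have h1 := L.gb hM j
  have h2 := L.gg hM hj (show 0 < 5 by norm_num)
  simp only [L.gv_zero] at h2
  simp only [cc, map_div₀, map_sub, map_ofNat, ← mul_div_assoc, mul_sub, ← Finset.sum_div, Finset.sum_sub_distrib,
    h1, h2]
  split_ifs <;> norm_num

theorem Loc.F_cc (k : ℕ) : ∑ χ ∈ B0 M G, Fk f χ k * conj (cc t x χ) = -80 := by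
  simp only [Fk, Finset.sum_mul]
  rw [Finset.sum_comm, Finset.sum_eq_single 0 (fun j hj h0 => ?_) (by simp)]
  · simp only [zero_mul, pow_zero, mul_one, L.cc_gv hM (show 0 < 5 by norm_num), if_pos]
  · rw [Finset.sum_congr rfl fun χ _ => mul_right_comm (gv f χ j) _ _, ← Finset.sum_mul, L.cc_gv hM (Finset.mem_range.1 hj), if_neg h0, zero_mul]

theorem Loc.F_F (k l : ℕ) :
    ∑ χ ∈ B0 M G, Fk f χ k * conj (Fk f χ l) = 300 + if 5 ∣ k + 4 * l then 100 else 0 := by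
  simp only [Fk, map_sum, map_mul, conj_omega_pow, Finset.sum_mul_sum]
  rw [Finset.sum_comm, Finset.sum_congr rfl fun i hi => by
    rw [Finset.sum_comm, Finset.sum_congr rfl fun j hj => show _ =
        (if i = j then (if i = 0 then 320 else 20) else 0) * (ω ^ (i * k) * ω ^ (4 * (j * l))) by
      rw [← L.gg hM (Finset.mem_range.1 hi) (Finset.mem_range.1 hj), Finset.sum_mul]
      exact Finset.sum_congr rfl fun χ _ => by ring]]
  simp only [ite_mul, zero_mul, Finset.sum_ite_eq, Finset.mem_range]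
  rw [Finset.sum_congr rfl fun i hi => show _ =
      (20 : ℂ) * ω ^ (i * (k + 4 * l)) + if i = 0 then 300 else 0 by
    rw [if_pos (Finset.mem_range.1 hi), ← pow_add, show i * k + 4 * (i * l) = i * (k + 4 * l) by ring]
    split_ifs with h0
    · subst h0; norm_num
    · ring]
  rw [Finset.sum_add_distrib, ← Finset.mul_sum, sum_omega, Finset.sum_ite_eq']
  simp only [Finset.mem_range, Nat.ofNat_pos, if_true]
  split_ifs <;> norm_num

theorem Loc.gram {z : IrrCharacter G → ℕ → ℤ} (hz : ∀ χ ∈ B0 M G, ∀ k, cc t x χ + Fk f χ k / 5 = z χ k) (k l : ℕ) :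
    ∑ χ ∈ B0 M G, z χ k * z χ l = 1 + if 5 ∣ k + 4 * l then 4 else 0 := by
  have h : ∑ χ ∈ B0 M G, ((z χ k : ℂ) * conj (z χ l : ℂ)) = 1 + if 5 ∣ k + 4 * l then 4 else 0 := by
    have e : ∀ χ ∈ B0 M G, ((z χ k : ℂ) * conj (z χ l : ℂ)) = cc t x χ * conj (cc t x χ) +
        (Fk f χ k * conj (cc t x χ)) / 5 + conj (Fk f χ l * conj (cc t x χ)) / 5 +
          (Fk f χ k * conj (Fk f χ l)) / 25 := fun χ hχ => by
      rw [← hz χ hχ, ← hz χ hχ]
      simp only [map_add, map_div₀, map_ofNat, map_mul, Complex.conj_conj]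
      ring
    rw [Finset.sum_congr rfl e]
    simp only [Finset.sum_add_distrib, ← Finset.sum_div, ← map_sum, L.cc_cc hM, L.F_cc hM, L.F_F hM, map_neg,
      map_ofNat]
    split_ifs <;> norm_num
  simp only [map_intCast, ← Int.cast_mul, ← Int.cast_sum] at h
  rw [← Int.cast_inj (α := ℂ), h]
  split_ifs <;> norm_num

theorem Loc.b_coeff {b : IrrCharacter G → ℤ} (hb : ∀ χ : IrrCharacter G, (χ : G → ℂ) x = b χ)
    {z : IrrCharacter G → ℕ → ℤ} (hz : ∀ χ ∈ B0 M G, ∀ k, cc t x χ + Fk f χ k / 5 = z χ k) (k : ℕ) :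
    ∑ χ ∈ B0 M G, b χ * z χ k = 4 := by
  have h1 := L.bb hM hb
  have h2 : ∀ j, ∑ χ ∈ B0 M G, gv f χ j * (b χ : ℂ) = 0 := fun j => by
    simpa only [hb, map_intCast] using L.gb hM j
  have h3 := h2 0
  simp only [L.gv_zero] at h3
  have e : ∀ χ ∈ B0 M G, ((b χ * z χ k : ℤ) : ℂ) = ((b χ * b χ : ℤ) : ℂ) / 4 - ((χ : G → ℂ) t * (b χ : ℂ)) / 4 +
      (Fk f χ k * (b χ : ℂ)) / 5 := fun χ hχ => by
    rw [Int.cast_mul, ← hz χ hχ, cc, hb, Int.cast_mul]
    ring
  rw [← Int.cast_inj (α := ℂ), Int.cast_sum, Finset.sum_congr rfl e]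
  simp only [Finset.sum_add_distrib, Finset.sum_sub_distrib, ← Finset.sum_div, ← Int.cast_sum, h1, h3, Fk,
    Finset.sum_mul]
  rw [Finset.sum_comm, Finset.sum_eq_zero fun j _ => ?_]
  · norm_num
  · rw [Finset.sum_congr rfl fun χ _ => mul_right_comm (gv f χ j) _ _, ← Finset.sum_mul, h2, zero_mul]

theorem Loc.d_coeff {d : IrrCharacter G → ℤ} (hd : ∀ χ : IrrCharacter G, (χ : G → ℂ) 1 = d χ)
    {z : IrrCharacter G → ℕ → ℤ} (hz : ∀ χ ∈ B0 M G, ∀ k, cc t x χ + Fk f χ k / 5 = z χ k) (k : ℕ) :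
    ∑ χ ∈ B0 M G, z χ k * d χ = 0 := by
  have h1 : ∑ χ ∈ B0 M G, (χ : G → ℂ) x * (d χ : ℂ) = 0 := by simpa only [hd, map_intCast] using L.bd hM
  have h2 : ∀ j, ∑ χ ∈ B0 M G, gv f χ j * (d χ : ℂ) = 0 := fun j => by
    simpa only [hd, map_intCast] using L.gd hM j
  have h3 := h2 0
  simp only [L.gv_zero] at h3
  have e : ∀ χ ∈ B0 M G, ((z χ k * d χ : ℤ) : ℂ) = ((χ : G → ℂ) x * (d χ : ℂ)) / 4 - ((χ : G → ℂ) t * (d χ : ℂ)) / 4 +
      (Fk f χ k * (d χ : ℂ)) / 5 := fun χ hχ => by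
    rw [Int.cast_mul, ← hz χ hχ, cc]
    ring
  rw [← Int.cast_inj (α := ℂ), Int.cast_sum, Finset.sum_congr rfl e]
  simp only [Finset.sum_add_distrib, Finset.sum_sub_distrib, ← Finset.sum_div, h1, h3, Fk, Finset.sum_mul]
  rw [Finset.sum_comm, Finset.sum_eq_zero fun j _ => ?_]
  · norm_num
  · rw [Finset.sum_congr rfl fun χ _ => mul_right_comm (gv f χ j) _ _, ← Finset.sum_mul, h2, zero_mul]

/-- The weighted sums at the coefficients are all equal and negative. -/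
theorem Loc.exists_rec_coeff : ∃ r : ℚ, 0 < r ∧ ∀ k : ℕ,
    ∑ χ ∈ B0 M G, (χ : G → ℂ) t ^ 2 / (χ : G → ℂ) 1 * (cc t x χ + Fk f χ k / 5) = -(r : ℂ) / 20 := by
  obtain ⟨r, hr, h0⟩ := L.exists_pos_rec hM
  refine ⟨r, hr, fun k => ?_⟩
  have h1 := L.rec_x hM
  have h0' := h0
  simp only [L.gv_zero] at h0'
  simp only [cc, mul_add, ← mul_div_assoc, mul_sub, Finset.sum_add_distrib, ← Finset.sum_div, Finset.sum_sub_distrib,
    h1, h0', Fk, Finset.mul_sum]
  rw [Finset.sum_comm, Finset.sum_eq_single 0 (fun j hj hne => ?_) (by simp)]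
  · simp only [zero_mul, pow_zero, mul_one, h0]
    ring
  · simp only [← mul_assoc, ← Finset.sum_mul]
    rw [L.rec_gv hM (Finset.mem_range.1 hj), if_neg hne, zero_mul]

end CfsgLib.Recog.UFourSylow.Block
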