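import Cfsg.Agent.Lib.Recog.UFourSylow.Block.Setup
import Cfsg.Agent.Lib.Blocks.PrincipalPSolvable
import Cfsg.Agent.Lib.Blocks.PrincipalGalois

set_option autoImplicit false

/-!
The principal block of the centralizer of the involution (owner: helper25): all characters of `C(t)/N`, so the
products over it are centralizer orders in this quotient.
-/

namespace CfsgLib.Recog.UFourSylow.Block

open Cfsg CfsgLib CfsgLib.Char CfsgLib.CharIntegral CfsgLib.Blocks
open scoped Classical ComplexConjugate

variable {G : Type*} [Group G] [Fintype G] {t x : G} {S A E : Subgroup G}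
  {N : Subgroup (Subgroup.centralizer ({t} : Set G))} {f : Subgroup.centralizer ({t} : Set G)} [N.Normal]
  (L : Loc t x S A E N f)

include L

omit [Fintype G] in
theorem Loc.mk_pow_five : QuotientGroup.mk' N f ^ 5 = 1 := by
  rw [← map_pow]; exact (QuotientGroup.eq_one_iff _).2 L.pow_f

omit [Fintype G] in
theorem Loc.card_quot : Nat.card (Subgroup.centralizer ({t} : Set G) ⧸ N) = 320 := by
  rw [← L.index_N, Subgroup.index]

omit [Fintype G] in
theorem Loc.orderOf_mk_f : orderOf (QuotientGroup.mk' N f) = 5 := by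
  have : Fact (Nat.Prime 5) := ⟨by norm_num⟩
  refine orderOf_eq_prime L.mk_pow_five fun h => ?_
  have h1 := L.cent_f
  rw [h, show Subgroup.centralizer ({(1 : Subgroup.centralizer ({t} : Set G) ⧸ N)} : Set _) = ⊤ from
    eq_top_iff.2 fun a _ => Subgroup.mem_centralizer_singleton_iff.2 (by rw [mul_one, one_mul]),
    Subgroup.card_top, L.card_quot] at h1
  omega

omit [Fintype G] in
theorem Loc.five_dvd_orderOf_f : 5 ∣ orderOf f := L.orderOf_mk_f ▸ orderOf_map_dvd _ _

omit [Fintype G] in
theorem Loc.odd_pow_f (i : ℕ) : ¬ 2 ∣ orderOf (f ^ i) := fun h => L.odd_f (h.trans (orderOf_pow_dvd i))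

/-- An element of order five of the quotient commuting with the normal subgroup of order 64 is trivial. -/
theorem Loc.not_centralized {P : Subgroup (Subgroup.centralizer ({t} : Set G) ⧸ N)} (hP : Nat.card P = 64)
    (h : ∀ a ∈ P, Commute a (QuotientGroup.mk' N f)) : False := by
  have h1 : P ≤ Subgroup.centralizer ({QuotientGroup.mk' N f} : Set (Subgroup.centralizer ({t} : Set G) ⧸ N)) :=
    fun a ha => Subgroup.mem_centralizer_singleton_iff.2 (h a ha).eq
  have := Nat.le_of_dvd Nat.card_pos (Subgroup.card_dvd_of_le h1)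
  rw [L.cent_f, hP] at this
  omega

theorem Loc.pPrimeCore_quot : pPrimeCore 2 (Subgroup.centralizer ({t} : Set G) ⧸ N) = ⊥ := by
  set Q := Subgroup.centralizer ({t} : Set G) ⧸ N
  set K := pPrimeCore 2 Q with hK
  have : Fact (Nat.Prime 2) := ⟨Nat.prime_two⟩
  obtain ⟨P, hPn, hP⟩ := L.sylow
  have hKc : (Nat.card K).Coprime 2 := Core.coprime_card_pPrimeCore 2 Q
  have hK5 : Nat.card K ∣ 5 := by
    have h1 := Subgroup.card_subgroup_dvd_card K
    rw [L.card_quot, show 320 = 2 ^ 6 * 5 from rfl] at h1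
    exact (Nat.Coprime.pow_right 6 hKc).dvd_of_dvd_mul_left h1
  refine Subgroup.eq_bot_of_card_le K ?_
  rcases (Nat.dvd_prime (by norm_num)).1 hK5 with h | h
  · omega
  exfalso
  have hidx : K.index = 64 := by
    have := Subgroup.card_mul_index K
    rw [h, L.card_quot] at this
    omega
  have hfK : QuotientGroup.mk' N f ∈ K := by
    refine (QuotientGroup.eq_one_iff _).1 (orderOf_eq_one_iff.1 ?_)
    have h1 : orderOf (QuotientGroup.mk' K (QuotientGroup.mk' N f)) ∣ 5 := L.orderOf_mk_f ▸ orderOf_map_dvd _ _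
    have h2 : orderOf (QuotientGroup.mk' K (QuotientGroup.mk' N f)) ∣ 64 := by
      rw [← hidx, Subgroup.index]; exact orderOf_dvd_natCard _
    exact Nat.eq_one_of_dvd_coprimes (by norm_num) h1 h2
  refine L.not_centralized hP fun a ha => ?_
  refine Subgroup.commute_of_normal_of_disjoint P K hPn inferInstance (disjoint_iff.2
    (disjoint_iff.1 (Subgroup.disjoint_of_coprime_natCard (by rw [hP, h]; norm_num)))) a _ ha hfK

omit [Fintype G] in
theorem Loc.isPSolvable_quot : IsPSolvable 2 (Subgroup.centralizer ({t} : Set G) ⧸ N) := by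
  obtain ⟨P, hPn, hP⟩ := L.sylow
  refine ⟨2, ![⊥, P, ⊤], rfl, rfl, ?_, fun i => ?_, fun i => ?_⟩
  · intro a b hab
    fin_cases a <;> fin_cases b <;> simp_all
  · fin_cases i
    · exact Subgroup.normal_bot
    · exact hPn
    · exact Subgroup.normal_top
  · fin_cases i
    · left
      refine ⟨6, ?_⟩
      show (⊥ : Subgroup _).relIndex P = _
      rw [Subgroup.relIndex_bot_left, hP]
      norm_num
    · right
      show (P.relIndex ⊤).Coprime 2
      have := Subgroup.card_mul_index P
      rw [hP, L.card_quot] at this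
      rw [Subgroup.relIndex_top_right, show P.index = 5 by omega]
      norm_num

omit [Fintype G] in
/-- The class of a product in the quotient determines the exponent. -/
theorem Loc.conj_pow_iff {i j : ℕ} (hi : i < 5) (hj : j < 5) :
    IsConj (QuotientGroup.mk' N f ^ i) (QuotientGroup.mk' N f ^ j) ↔ i = j := by
  refine ⟨fun h => ?_, fun h => h ▸ IsConj.refl _⟩
  obtain ⟨P, hPn, hP⟩ := L.sylow
  have hidx : P.index = 5 := by
    have := Subgroup.card_mul_index P
    rw [hP, L.card_quot] at this
    omega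
  have : Fact (Nat.Prime 5) := ⟨by norm_num⟩
  have hcyc : IsCyclic ((Subgroup.centralizer ({t} : Set G) ⧸ N) ⧸ P) :=
    isCyclic_of_prime_card (p := 5) (by rw [← Subgroup.index_eq_card, hidx])
  set π := QuotientGroup.mk' P with hπ
  have hne : π (QuotientGroup.mk' N f) ≠ 1 := fun h1 => by
    have h2 := Subgroup.orderOf_dvd_natCard P ((QuotientGroup.eq_one_iff _).1 h1)
    rw [L.orderOf_mk_f, hP] at h2
    omega
  have ho : orderOf (π (QuotientGroup.mk' N f)) = 5 :=
    orderOf_eq_prime (by rw [← map_pow, L.mk_pow_five, map_one]) hne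
  obtain ⟨c, hc⟩ := isConj_iff.1 h
  have h2 : π (QuotientGroup.mk' N f) ^ i = π (QuotientGroup.mk' N f) ^ j := by
    let := IsCyclic.commGroup (α := (Subgroup.centralizer ({t} : Set G) ⧸ N) ⧸ P)
    rw [← map_pow π, ← map_pow π, ← hc, map_mul, map_mul, map_inv, mul_inv_cancel_comm]
  exact pow_injOn_Iio_orderOf (by rw [Set.mem_Iio, ho]; exact hi) (by rw [Set.mem_Iio, ho]; exact hj) h2

omit [Fintype G] in
/-- The centralizer order of the power. -/
theorem Loc.cent_pow {i : ℕ} (hi : i < 5) :
    Nat.card (Subgroup.centralizer ({QuotientGroup.mk' N f ^ i} : Set (Subgroup.centralizer ({t} : Set G) ⧸ N))) =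
      if i = 0 then 320 else 20 := by
  split_ifs with h0
  · subst h0
    rw [pow_zero, show Subgroup.centralizer ({(1 : Subgroup.centralizer ({t} : Set G) ⧸ N)} : Set _) = ⊤ from
      eq_top_iff.2 fun a _ => Subgroup.mem_centralizer_singleton_iff.2 (by rw [mul_one, one_mul]),
      Subgroup.card_top, L.card_quot]
  · rw [← L.cent_f]
    obtain ⟨m, hm⟩ := exists_pow_eq_self_of_coprime (x := QuotientGroup.mk' N f) (n := i) (by
      rw [L.orderOf_mk_f]
      exact Nat.Coprime.symm ((Nat.Prime.coprime_iff_not_dvd (by norm_num)).2 fun hd => by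
        have := Nat.le_of_dvd (by omega) hd
        omega))
    rw [show Subgroup.centralizer ({QuotientGroup.mk' N f ^ i} : Set (Subgroup.centralizer ({t} : Set G) ⧸ N)) =
      Subgroup.centralizer {QuotientGroup.mk' N f} from Subgroup.ext fun a => by
        rw [Subgroup.mem_centralizer_singleton_iff, Subgroup.mem_centralizer_singleton_iff]
        exact ⟨fun h => by rw [← hm]; exact (Commute.pow_right h m).eq,
          fun h => (Commute.pow_right h i).eq⟩]

variable {M : Ideal AlgInt} [M.IsPrime] (hM : IsPModular 2 M)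
include hM

/-- The products over the principal block of the centralizer. -/
theorem Loc.sum_B0_cent (u u' : Subgroup.centralizer ({t} : Set G)) :
    ∑ ψ ∈ B0 M (Subgroup.centralizer ({t} : Set G)), (ψ : Subgroup.centralizer ({t} : Set G) → ℂ) u *
        conj ((ψ : Subgroup.centralizer ({t} : Set G) → ℂ) u') =
      if IsConj (QuotientGroup.mk' N u) (QuotientGroup.mk' N u') then
        (Nat.card (Subgroup.centralizer ({QuotientGroup.mk' N u} : Set (Subgroup.centralizer ({t} : Set G) ⧸ N))) : ℂ)
      else 0 := by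
  have : Fact (Nat.Prime 2) := ⟨Nat.prime_two⟩
  have := Fintype.ofFinite (Subgroup.centralizer ({t} : Set G) ⧸ N)
  have := Fintype.ofFinite (IrrCharacter (Subgroup.centralizer ({t} : Set G) ⧸ N))
  rw [B0, ← finsum_mem_eq_finite_toFinset_sum (fun ψ : IrrCharacter (Subgroup.centralizer ({t} : Set G)) =>
      (ψ : Subgroup.centralizer ({t} : Set G) → ℂ) u * conj ((ψ : Subgroup.centralizer ({t} : Set G) → ℂ) u')),
    sum_principalBlock_eq_quotient hM N L.odd_N (fun θ : Subgroup.centralizer ({t} : Set G) → ℂ => θ u * conj (θ u')),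
    finsum_mem_eq_finite_toFinset_sum _ (Set.toFinite _), ← Char.column_orthogonality]
  refine Finset.sum_congr ?_ fun _ _ => rfl
  refine Finset.eq_univ_iff_forall.2 fun ψ => (Set.Finite.mem_toFinset _).2 ?_
  rw [mem_principalBlock_iff_of_isPSolvable hM L.isPSolvable_quot, L.pPrimeCore_quot]
  intro n hn
  rw [Subgroup.mem_bot.1 hn]

theorem Loc.sum_B0_cent_pow {i j : ℕ} (hi : i < 5) (hj : j < 5) :
    ∑ ψ ∈ B0 M (Subgroup.centralizer ({t} : Set G)), (ψ : Subgroup.centralizer ({t} : Set G) → ℂ) (f ^ i) *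
        conj ((ψ : Subgroup.centralizer ({t} : Set G) → ℂ) (f ^ j)) =
      if i = j then (if i = 0 then 320 else 20) else 0 := by
  rw [L.sum_B0_cent hM, map_pow, map_pow]
  simp only [L.conj_pow_iff hi hj, L.cent_pow hi]
  split_ifs <;> norm_num

/-- The characters of the principal block see only the coset of the odd element. -/
theorem Loc.translate_eq {χ : IrrCharacter G} (hχ : χ ∈ B0 M G) {u u' : Subgroup.centralizer ({t} : Set G)}
    (hu : ¬ 2 ∣ orderOf u) (hu' : ¬ 2 ∣ orderOf u') (h : QuotientGroup.mk' N u = QuotientGroup.mk' N u') :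
    (χ : G → ℂ) (t * (u : G)) = (χ : G → ℂ) (t * (u' : G)) := by
  have : Fact (Nat.Prime 2) := ⟨Nat.prime_two⟩
  have := Fintype.ofFinite (Subgroup.centralizer ({t} : Set G) ⧸ N)
  have hy : ∃ k : ℕ, orderOf t = 2 ^ k := ⟨1, by rw [L.orderOf_t, pow_one]⟩
  have e1 := blockPart_principal_translate hM hy χ hu
  have e2 := blockPart_principal_translate hM hy χ hu'
  rw [if_pos (mem_B0.1 hχ)] at e1 e2
  rw [← e1, ← e2, blockPart_eq, blockPart_eq]
  refine finsum_mem_congr rfl fun ψ hψ => ?_
  obtain ⟨φ, rfl⟩ := exists_inflate_eq N ψ (apply_eq_of_mem_principalBlock N hM L.odd_N hψ)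
  exact congrArg _ (congrArg (φ : Subgroup.centralizer ({t} : Set G) ⧸ N → ℂ) h)

omit [Fintype G] [M.IsPrime] hM in
/-- An odd element inverted by an involution of the centralizer is trivial in the quotient. -/
theorem Loc.mk_eq_one_of_inverted {a w : Subgroup.centralizer ({t} : Set G)} (ha : a * a = 1)
    (hw : ¬ 2 ∣ orderOf w) (h : a * w * a⁻¹ = w⁻¹) : QuotientGroup.mk' N w = 1 := by
  have hc := L.inv_central (QuotientGroup.mk' N a) (by rw [← map_mul, ha, map_one]) (QuotientGroup.mk' N w)
  have h1 := congrArg (QuotientGroup.mk' N) h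
  rw [map_mul, map_mul, map_inv, map_inv, hc.eq, mul_inv_cancel_right] at h1
  have h2 : orderOf (QuotientGroup.mk' N w) ∣ 2 := orderOf_dvd_of_pow_eq_one (by
    rw [pow_two]; exact eq_inv_iff_mul_eq_one.1 h1)
  have h3 := (orderOf_map_dvd (QuotientGroup.mk' N) w)
  refine orderOf_eq_one_iff.1 ((Nat.prime_two.eq_one_or_self_of_dvd _ h2).resolve_right fun e => hw ?_)
  exact e ▸ h3

end CfsgLib.Recog.UFourSylow.Block
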