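import Cfsg.Agent.Lib.Recog.UFourSylow.Block.Setup
import Mathlib.GroupTheory.FiniteAbelian.Duality
import Mathlib.GroupTheory.Sylow

set_option autoImplicit false

/-!
The values of a character on the Sylow two-subgroup and at the products of the involution with the elements of
order five (owner: helper25): integrality and the congruences given by multiplicities.
-/

namespace CfsgLib.Recog.UFourSylow.Block

open Cfsg CfsgLib CfsgLib.Char
open scoped Classical

variable {G : Type*} [Group G] [Fintype G] {t x : G} {S A E : Subgroup G}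
  {N : Subgroup (Subgroup.centralizer ({t} : Set G))} {f : Subgroup.centralizer ({t} : Set G)} [N.Normal]
  (L : Loc t x S A E N f)

/-- The primitive fifth root of unity. -/
noncomputable def ω : ℂ := Complex.exp (2 * Real.pi * Complex.I / (5 : ℕ))

theorem omega_primitive : IsPrimitiveRoot ω 5 := Complex.isPrimitiveRoot_exp 5 (by norm_num)

theorem omega_pow_five : ω ^ 5 = 1 := omega_primitive.pow_eq_one

theorem sum_omega (k : ℕ) : ∑ j ∈ Finset.range 5, ω ^ (j * k) = if 5 ∣ k then 5 else 0 := by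
  simp only [show ∀ j, ω ^ (j * k) = (ω ^ k) ^ j from fun j => by rw [← pow_mul, mul_comm]]
  split_ifs with h
  · rw [(omega_primitive.pow_eq_one_iff_dvd k).2 h]; norm_num
  · have hne : ω ^ k ≠ 1 := fun e => h ((omega_primitive.pow_eq_one_iff_dvd k).1 e)
    rw [geom_sum_eq hne, ← pow_mul, mul_comm k, pow_mul, omega_pow_five, one_pow, sub_self, zero_div]

/-- The value at the product of the involution and a power of the element of order five. -/
noncomputable def gv {t : G} (f : Subgroup.centralizer ({t} : Set G)) (χ : IrrCharacter G) (j : ℕ) : ℂ :=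
  (χ : G → ℂ) (t * ((f ^ j : Subgroup.centralizer ({t} : Set G)) : G))

include L

omit [Fintype G] in
theorem Loc.commute_f : Commute t (f : G) := (Subgroup.mem_centralizer_singleton_iff.1 f.2).symm

omit [Fintype G] in
theorem Loc.t_mul_t : t * t = 1 := by rw [← pow_two, ← L.orderOf_t, pow_orderOf_eq_one]

theorem Loc.gv_eq_pow (χ : IrrCharacter G) (j m : ℕ) (hm : m % 2 = 1) (hj : m % orderOf f = j % orderOf f) :
    gv f χ j = (χ : G → ℂ) ((t * (f : G)) ^ m) := by
  rw [gv, Subgroup.coe_pow, L.commute_f.mul_pow, pow_eq_pow_mod m (show t ^ 2 = 1 by rw [pow_two, L.t_mul_t]), hm,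
    pow_one]
  have hn : (f : G) ^ orderOf f = 1 := by rw [← Subgroup.coe_pow, pow_orderOf_eq_one, OneMemClass.coe_one]
  rw [pow_eq_pow_mod j hn, pow_eq_pow_mod m hn, hj]

theorem Loc.gv_zero (χ : IrrCharacter G) : gv f χ 0 = (χ : G → ℂ) t := by simp [gv]

/-- The Fourier coefficients at the product of the involution and the odd element are integers. -/
theorem Loc.exists_int_fourier (χ : IrrCharacter G) (h5 : 5 ∣ orderOf f)
    (hper : ∀ i, gv f χ i = gv f χ (i % 5)) (k : ℕ) :
    ∃ n : ℤ, ∑ j ∈ Finset.range 5, gv f χ j * ω ^ (j * k) = 5 * (n : ℂ) := by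
  obtain ⟨n, ρ, -, hρ⟩ := χ.2
  set o := orderOf f with ho
  have hodd : o % 2 = 1 := by have := L.odd_f; omega
  obtain ⟨ε, hε, -, hpow, -⟩ := exists_eigenvalues ρ (t * (f : G))
  have hg : ∀ j, gv f χ j = ∑ i, ε i ^ (o + (o + 1) * j) := fun j => by
    rw [L.gv_eq_pow χ j (o + (o + 1) * j) (by rw [Nat.add_mod, Nat.mul_mod, Nat.add_mod o 1, hodd]; norm_num)
      (by rw [Nat.add_mod_left, add_mul, one_mul, Nat.mul_add_mod_self_left]), ← hρ, hpow]
  have h2o : ∀ i, ε i ^ (2 * o) = 1 := fun i => by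
    have hd : orderOf (t * (f : G)) ∣ 2 * o := orderOf_dvd_of_pow_eq_one (by
      rw [L.commute_f.mul_pow, pow_mul, pow_two, L.t_mul_t, one_pow, one_mul, mul_comm 2, pow_mul, ← Subgroup.coe_pow,
        pow_orderOf_eq_one, OneMemClass.coe_one, one_pow])
    obtain ⟨q, hq⟩ := hd
    rw [hq, pow_mul, hε, one_pow]
  have hi : ∀ i, ∃ z : ℤ, ∑ j ∈ Finset.range o, ε i ^ (o + (o + 1) * j) * ω ^ (j * k) = (o : ℂ) * (z : ℂ) :=
    fun i => by
    have e : ∀ j, ε i ^ (o + (o + 1) * j) * ω ^ (j * k) = ε i ^ o * (ε i ^ (o + 1) * ω ^ k) ^ j := fun j => by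
      rw [mul_comm j k, pow_add, pow_mul, pow_mul, mul_pow]; ring
    simp only [e, ← Finset.mul_sum]
    have hs : ε i ^ o = 1 ∨ ε i ^ o = -1 := sq_eq_one_iff.1 (by rw [← pow_mul, mul_comm]; exact h2o i)
    by_cases h1 : ε i ^ (o + 1) * ω ^ k = 1
    · rw [h1]
      rcases hs with h | h
      · exact ⟨1, by rw [h]; simp⟩
      · exact ⟨-1, by rw [h]; simp⟩
    · refine ⟨0, ?_⟩
      obtain ⟨w, hw⟩ : 2 * o ∣ (o + 1) * o := Nat.mul_dvd_mul_right (by omega) o
      obtain ⟨v, hv⟩ := h5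
      rw [geom_sum_eq h1, mul_pow, ← pow_mul, ← pow_mul, hw, pow_mul, h2o, one_pow,
        show k * o = 5 * (k * v) by rw [hv]; ring, pow_mul, omega_pow_five, one_pow, mul_one, sub_self, zero_div,
        mul_zero, Int.cast_zero, mul_zero]
  choose z hz using hi
  refine ⟨∑ i, z i, ?_⟩
  have hsum : ∀ q : ℕ, ∑ j ∈ Finset.range (5 * q), gv f χ j * ω ^ (j * k) =
      (q : ℂ) * ∑ j ∈ Finset.range 5, gv f χ j * ω ^ (j * k) := fun q => by
    induction q with
    | zero => simp
    | succ q ih =>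
      rw [Nat.mul_succ, Finset.sum_range_add, ih, Nat.cast_succ, add_one_mul]
      congr 1
      refine Finset.sum_congr rfl fun j hj => ?_
      rw [hper (5 * q + j), show (5 * q + j) % 5 = j by have := Finset.mem_range.1 hj; omega, add_mul, pow_add,
        mul_assoc 5 q k, pow_mul, omega_pow_five, one_pow, one_mul]
  obtain ⟨v, hv⟩ := h5
  have hv0 : (v : ℂ) ≠ 0 := Nat.cast_ne_zero.2 fun e => by rw [e] at hv; omega
  refine mul_left_cancel₀ hv0 ?_
  rw [← hsum, ← hv]
  simp only [hg, Finset.sum_mul]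
  rw [Finset.sum_comm, Finset.sum_congr rfl fun i _ => hz i, ← Finset.mul_sum, hv]
  push_cast
  ring

/-- The twisted sum over a subgroup between `E` and `S`. -/
theorem Loc.sum_between (χ : IrrCharacter G) {H : Subgroup G} (hEH : E ≤ H) (hHS : H ≤ S) (l : H →* ℂˣ) :
    ∑ h : H, ((l h : ℂˣ) : ℂ) * (χ : G → ℂ) (h : G) =
      ((χ : G → ℂ) 1 - (χ : G → ℂ) t) +
        ((χ : G → ℂ) t - (χ : G → ℂ) x) * ∑ e : E.subgroupOf H, ((l (e : H) : ℂˣ) : ℂ) +
        (χ : G → ℂ) x * ∑ h : H, ((l h : ℂˣ) : ℂ) := by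
  have hc := IsIrr.isClassFunction χ.2
  have hv : ∀ h : H, (χ : G → ℂ) (h : G) = (if h = 1 then (χ : G → ℂ) 1 - (χ : G → ℂ) t else 0) +
      ((χ : G → ℂ) t - (χ : G → ℂ) x) * (if h ∈ E.subgroupOf H then 1 else 0) + (χ : G → ℂ) x := fun h => by
    by_cases h1 : h = 1
    · subst h1
      rw [if_pos rfl, if_pos (one_mem _), OneMemClass.coe_one]
      ring
    rw [if_neg h1]
    by_cases hE : h ∈ E.subgroupOf H
    · rw [if_pos hE, Char.isClassFunction_iff_isConj.1 hc t (h : G)
        (L.fused_E _ (Subgroup.mem_subgroupOf.1 hE) fun e => h1 (Subtype.ext e))]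
      ring
    · rw [if_neg hE, Char.isClassFunction_iff_isConj.1 hc x (h : G)
        (L.fused_S _ (hHS h.2) fun e => hE (Subgroup.mem_subgroupOf.2 e))]
      ring
  simp only [hv, mul_add, Finset.sum_add_distrib]
  congr 1
  · congr 1
    · simp only [mul_ite, mul_zero, Finset.sum_ite_eq', Finset.mem_univ, if_true, map_one, Units.val_one, one_mul]
    · simp only [mul_ite, mul_one, mul_zero, Finset.mul_sum]
      rw [← Finset.sum_filter, Finset.sum_subtype (p := (· ∈ E.subgroupOf H)) _ (by simp)]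
      exact Finset.sum_congr rfl fun e _ => mul_comm _ _
  · rw [Finset.mul_sum]
    exact Finset.sum_congr rfl fun e _ => mul_comm _ _

omit [Fintype G] in
theorem Loc.card_E_subgroupOf {H : Subgroup G} (hEH : E ≤ H) : Nat.card (E.subgroupOf H) = 4 := by
  rw [Nat.card_congr (Subgroup.subgroupOfEquivOfLe hEH).toEquiv, L.card_E]

/-- The multiplicity of the trivial character of `S`. -/
theorem Loc.mult_triv (χ : IrrCharacter G) :
    ∃ m : ℕ, (χ : G → ℂ) 1 + 3 * (χ : G → ℂ) t + 60 * (χ : G → ℂ) x = 64 * (m : ℂ) := by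
  obtain ⟨m, hm⟩ := exists_nat_mult χ S 1
  refine ⟨m, ?_⟩
  rw [L.sum_between χ (L.E_le.trans L.A_le) le_rfl, L.card_S] at hm
  simp only [MonoidHom.one_apply, Units.val_one, Finset.sum_const, Finset.card_univ, nsmul_one,
    ← Nat.card_eq_fintype_card, L.card_E_subgroupOf (L.E_le.trans L.A_le), L.card_S] at hm
  push_cast at hm
  linear_combination hm

/-- The multiplicity of a sign character of `S` trivial on `E`. -/
theorem Loc.mult_sign (χ : IrrCharacter G) :
    ∃ m : ℕ, (χ : G → ℂ) 1 + 3 * (χ : G → ℂ) t - 4 * (χ : G → ℂ) x = 64 * (m : ℂ) := by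
  have : Fact (Nat.Prime 2) := ⟨Nat.prime_two⟩
  have hES := L.E_le.trans L.A_le
  obtain ⟨K, hK, hEK⟩ := Sylow.exists_subgroup_card_pow_prime_le (G := S) 2 (n := 2) (m := 5)
    (by rw [L.card_S]; norm_num) (E.subgroupOf S) (by rw [L.card_E_subgroupOf hES]; norm_num) (by norm_num)
  have hidx : K.index = 2 := by
    have := Subgroup.card_mul_index K
    rw [hK, L.card_S] at this
    omega
  let l : S →* ℂˣ :=
    { toFun := fun s => if s ∈ K then 1 else -1
      map_one' := if_pos (one_mem K)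
      map_mul' := fun a b => by
        have := Subgroup.mul_mem_iff_of_index_two hidx (a := a) (b := b)
        by_cases ha : a ∈ K <;> by_cases hb : b ∈ K <;> simp [this, ha, hb] }
  obtain ⟨m, hm⟩ := exists_nat_mult χ S l
  refine ⟨m, ?_⟩
  have h1 : ∑ e : E.subgroupOf S, ((l (e : S) : ℂˣ) : ℂ) = 4 := by
    rw [Finset.sum_congr rfl fun (e : E.subgroupOf S) _ => show ((l (e : S) : ℂˣ) : ℂ) = 1 from by
      simp [l, show (e : S) ∈ K from hEK e.2], Finset.sum_const, Finset.card_univ, nsmul_one,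
      ← Nat.card_eq_fintype_card, L.card_E_subgroupOf hES]
    norm_num
  have h2 : ∑ s : S, ((l s : ℂˣ) : ℂ) = 0 := sum_hom_units_eq_zero ((Units.coeHom ℂ).comp l) fun e => by
    have hne : ∃ s : S, s ∉ K := by
      by_contra hc
      push Not at hc
      rw [show K = ⊤ from eq_top_iff.2 fun s _ => hc s, Subgroup.index_top] at hidx
      omega
    obtain ⟨s, hs⟩ := hne
    have := DFunLike.congr_fun e s
    simp [l, hs] at this
    norm_num at this
  rw [L.sum_between χ hES le_rfl, L.card_S, h1, h2] at hm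
  push_cast at hm
  linear_combination hm

/-- The multiplicity of a linear character of `A` nontrivial on `E`. -/
theorem Loc.mult_faithful (χ : IrrCharacter G) :
    ∃ m : ℕ, (χ : G → ℂ) 1 - (χ : G → ℂ) t = 16 * (m : ℂ) := by
  let : CommGroup A := { (inferInstance : Group A) with mul_comm := fun a b => Subtype.ext (L.A_comm a a.2 b b.2) }
  have htne : (⟨t, L.E_le L.t_mem⟩ : A) ≠ 1 := fun h => by
    have := L.orderOf_t
    rw [show t = 1 from congrArg Subtype.val h, orderOf_one] at this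
    omega
  obtain ⟨l, hl⟩ := CommGroup.exists_apply_ne_one_of_hasEnoughRootsOfUnity A ℂ htne
  obtain ⟨m, hm⟩ := exists_nat_mult χ A l
  refine ⟨m, ?_⟩
  have h1 : ∑ e : E.subgroupOf A, ((l (e : A) : ℂˣ) : ℂ) = 0 :=
    sum_hom_units_eq_zero ((Units.coeHom ℂ).comp (l.comp (E.subgroupOf A).subtype)) fun e => hl (Units.ext (by
      simpa using DFunLike.congr_fun e ⟨⟨t, L.E_le L.t_mem⟩, Subgroup.mem_subgroupOf.2 L.t_mem⟩))
  have h2 : ∑ a : A, ((l a : ℂˣ) : ℂ) = 0 := sum_hom_units_eq_zero ((Units.coeHom ℂ).comp l) fun e => hl (Units.ext (by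
      simpa using DFunLike.congr_fun e ⟨t, L.E_le L.t_mem⟩))
  rw [L.sum_between χ L.E_le L.A_le, L.card_A, h1, h2] at hm
  push_cast at hm
  linear_combination hm

/-- The values are integers. -/
theorem Loc.exists_int (χ : IrrCharacter G) :
    ∃ T b d : ℤ, (χ : G → ℂ) t = T ∧ (χ : G → ℂ) x = b ∧ (χ : G → ℂ) 1 = d := by
  have h2 : 2 ∣ Nat.card G := L.orderOf_t ▸ orderOf_dvd_natCard t
  have hodd : ∀ m : ℕ, m.Coprime (Nat.card G) → m % 2 = 1 := fun m hm => by
    by_contra h
    have := Nat.dvd_gcd (show 2 ∣ m by omega) h2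
    rw [hm] at this
    omega
  obtain ⟨T, hT⟩ := exists_int_value χ t fun m hm => by
    rw [pow_eq_pow_mod m (show t ^ 2 = 1 by rw [pow_two, L.t_mul_t]), hodd m hm, pow_one]
  obtain ⟨b, hb⟩ := exists_int_value χ x fun m hm => by
    have h4 : x ^ 4 = 1 := by rw [← L.orderOf_x, pow_orderOf_eq_one]
    have := hodd m hm
    rw [pow_eq_pow_mod m h4]
    rcases (by omega : m % 4 = 1 ∨ m % 4 = 3) with e | e <;> rw [e]
    · rw [pow_one]
    · rw [show x ^ 3 = x⁻¹ from eq_inv_of_mul_eq_one_left (by rw [← pow_succ]; exact h4)]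
      exact Char.isClassFunction_iff_isConj.1 (IsIrr.isClassFunction χ.2) _ _ L.conj_inv.symm
  obtain ⟨d, hd⟩ := exists_int_value χ 1 fun m _ => by rw [one_pow]
  exact ⟨T, b, d, hT, hb, hd⟩

end CfsgLib.Recog.UFourSylow.Block
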