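import Cfsg.Agent.Lib.Recog.UFourSylow.Block.Local
import Cfsg.Agent.Lib.Recog.UFourSylow.Block.Values
import Cfsg.Agent.Lib.Blocks.DihedralBlock.Section

set_option autoImplicit false

/-!
The products of the rows of the principal block and their sums weighted by the squares at the involution over the
degrees (owner: helper25).
-/

namespace CfsgLib.Recog.UFourSylow.Block

open Cfsg CfsgLib CfsgLib.Char CfsgLib.CharIntegral CfsgLib.Blocks
open scoped Classical ComplexConjugate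

variable {G : Type*} [Group G] [Fintype G] {t x : G} {S A E : Subgroup G}
  {N : Subgroup (Subgroup.centralizer ({t} : Set G))} {f : Subgroup.centralizer ({t} : Set G)} [N.Normal]
  (L : Loc t x S A E N f) {M : Ideal AlgInt} [M.IsPrime] (hM : IsPModular 2 M)

include L

theorem Loc.two_pow_t : ∃ k : ℕ, orderOf t = 2 ^ k := ⟨1, by rw [L.orderOf_t, pow_one]⟩

theorem Loc.two_pow_x : ∃ k : ℕ, orderOf x = 2 ^ k := ⟨2, by rw [L.orderOf_x]; norm_num⟩

theorem Loc.pPart_gv (j : ℕ) : IsPPart 2 (t * ((f ^ j : Subgroup.centralizer ({t} : Set G)) : G)) t :=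
  isPPart_mul L.two_pow_t (by rw [Subgroup.orderOf_coe]; exact L.odd_pow_f j)
    (Subgroup.mem_centralizer_singleton_iff.1 (f ^ j).2).symm

theorem Loc.not_conj_tx : ¬ IsConj t x := fun h => by
  obtain ⟨c, hc⟩ := isConj_iff.1 h
  have := L.orderOf_x
  rw [← hc, show c * t * c⁻¹ = MulAut.conj c t from rfl, MulEquiv.orderOf_eq, L.orderOf_t] at this
  omega

theorem Loc.pPart_x : IsPPart 2 x x :=
  ⟨1, mul_one x, Commute.one_right x, L.two_pow_x, by simp⟩

theorem Loc.pPart_one : IsPPart 2 (1 : G) 1 := isPPart_one_of_isPRegular (by simp)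

include hM

theorem Loc.bb {b : IrrCharacter G → ℤ} (hb : ∀ χ : IrrCharacter G, (χ : G → ℂ) x = b χ) :
    ∑ χ ∈ B0 M G, b χ * b χ = 16 := by
  have : Fact (Nat.Prime 2) := ⟨Nat.prime_two⟩
  have := Fintype.ofFinite (IrrCharacter G)
  obtain ⟨K, hKn, hK, hidx⟩ := L.cent_x
  have h := DihedralBlock.norm_sq_eq hM L.two_pow_x hK hidx
  have e : ∀ χ : IrrCharacter G, ‖(χ : G → ℂ) x‖ ^ 2 = ((b χ * b χ : ℤ) : ℝ) := fun χ => by
    rw [hb, Complex.norm_intCast, sq_abs, Int.cast_mul, pow_two]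
  simp only [e] at h
  rw [← Int.cast_sum] at h
  norm_num at h
  rw [B0, Set.Finite.toFinset_eq_toFinset]
  exact_mod_cast h

theorem Loc.gg {i j : ℕ} (hi : i < 5) (hj : j < 5) :
    ∑ χ ∈ B0 M G, gv f χ i * conj (gv f χ j) = if i = j then (if i = 0 then 320 else 20) else 0 := by
  have := Fintype.ofFinite (IrrCharacter (Subgroup.centralizer ({t} : Set G)))
  rw [← L.sum_B0_cent_pow hM hi hj]
  exact sum_section_mul hM L.two_pow_t (L.odd_pow_f i) (L.odd_pow_f j)

theorem Loc.gb (j : ℕ) : ∑ χ ∈ B0 M G, gv f χ j * conj ((χ : G → ℂ) x) = 0 :=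
  sum_sections_eq_zero hM (L.pPart_gv j) L.pPart_x L.not_conj_tx

theorem Loc.gd (j : ℕ) : ∑ χ ∈ B0 M G, gv f χ j * conj ((χ : G → ℂ) 1) = 0 :=
  sum_sections_eq_zero hM (L.pPart_gv j) L.pPart_one fun h => by
    have := L.orderOf_t
    rw [isConj_one_left.1 h, orderOf_one] at this
    omega

theorem Loc.bd : ∑ χ ∈ B0 M G, (χ : G → ℂ) x * conj ((χ : G → ℂ) 1) = 0 :=
  sum_sections_eq_zero hM L.pPart_x L.pPart_one fun h => by
    have := L.orderOf_x
    rw [isConj_one_left.1 h, orderOf_one] at this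
    omega

/-- No involution inverts the element of order four. -/
theorem Loc.rec_x : ∑ χ ∈ B0 M G, (χ : G → ℂ) t ^ 2 / (χ : G → ℂ) 1 * (χ : G → ℂ) x = 0 := by
  have h := recip_eq_zero hM L.two_pow_x L.t_mul_t (fun a ha => ?_)
    (u := (1 : Subgroup.centralizer ({x} : Set G))) (by simp)
  · rwa [OneMemClass.coe_one, mul_one] at h
  · obtain ⟨c, rfl⟩ := isConj_iff.1 ha
    exact L.no_inv _ (by rw [show c * t * c⁻¹ = MulAut.conj c t from rfl, MulEquiv.orderOf_eq, L.orderOf_t])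

/-- At a power of the element of order five the weighted sum sees only the trivial coset. -/
theorem Loc.rec_gv {j : ℕ} (hj : j < 5) :
    ∑ χ ∈ B0 M G, (χ : G → ℂ) t ^ 2 / (χ : G → ℂ) 1 * gv f χ j =
      if j = 0 then (320 : ℂ) * (Nat.card (Subgroup.centralizer ({t} : Set G)) : ℂ)⁻¹ *
        ∑ w ∈ Finset.univ.filter (fun w : Subgroup.centralizer ({t} : Set G) =>
          ¬ 2 ∣ orderOf w ∧ QuotientGroup.mk' N w = 1), pairs t (t * (w : G))
      else 0 := by
  refine (recip_translate hM L.two_pow_t t (L.odd_pow_f j)).trans ?_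
  have hz : ∀ w : Subgroup.centralizer ({t} : Set G), ¬ 2 ∣ orderOf w → QuotientGroup.mk' N w ≠ 1 →
      pairs t (t * (w : G)) = 0 := fun w hw hne => by
    by_contra h
    obtain ⟨a, ha, hat, haw⟩ := exists_inverting L.two_pow_t L.t_mul_t (w := (w : G))
      (by rwa [Subgroup.orderOf_coe]) (Subgroup.mem_centralizer_singleton_iff.1 w.2).symm h
    have hti : t⁻¹ = t := inv_eq_of_mul_eq_one_right L.t_mul_t
    rw [hti] at hat
    obtain ⟨c, hc⟩ := isConj_iff.1 ha
    exact hne (L.mk_eq_one_of_inverted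
      (a := ⟨a, Subgroup.mem_centralizer_singleton_iff.2 (mul_inv_eq_iff_eq_mul.1 hat)⟩)
      (Subtype.ext (by
        show a * a = 1
        rw [← hc, show c * t * c⁻¹ * (c * t * c⁻¹) = c * (t * t) * c⁻¹ by group, L.t_mul_t, mul_one, mul_inv_cancel]))
      hw (Subtype.ext haw))
  have hk : ∀ w : Subgroup.centralizer ({t} : Set G), QuotientGroup.mk' N w = 1 →
      ∑ ψ ∈ B0 M (Subgroup.centralizer ({t} : Set G)), (ψ : Subgroup.centralizer ({t} : Set G) → ℂ) (f ^ j) *
        conj ((ψ : Subgroup.centralizer ({t} : Set G) → ℂ) w) = if j = 0 then 320 else 0 := fun w hw => by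
    have h1 : QuotientGroup.mk' N w = QuotientGroup.mk' N (f ^ 0) := by rw [hw, pow_zero, map_one]
    have h2 := L.sum_B0_cent_pow hM hj (show 0 < 5 by norm_num)
    rw [L.sum_B0_cent hM, h1, ← L.sum_B0_cent hM, h2]
    split_ifs <;> rfl
  rw [← Finset.filter_filter, Finset.sum_filter (s := Finset.univ.filter fun w => ¬ 2 ∣ orderOf w)]
  split_ifs with h0
  · rw [mul_assoc, mul_comm (320 : ℂ), mul_assoc, Finset.sum_mul]
    congr 1
    refine Finset.sum_congr rfl fun w hw => ?_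
    split_ifs with h
    · rw [hk w h, if_pos h0]
    · rw [hz w (Finset.mem_filter.1 hw).2 h, zero_mul, zero_mul]
  · rw [Finset.sum_eq_zero fun w hw => ?_, mul_zero]
    by_cases h : QuotientGroup.mk' N w = 1
    · rw [hk w h, if_neg h0, mul_zero]
    · rw [hz w (Finset.mem_filter.1 hw).2 h, zero_mul]

/-- The weighted sum at the involution is a positive rational number. -/
theorem Loc.exists_pos_rec : ∃ r : ℚ, 0 < r ∧
    ∑ χ ∈ B0 M G, (χ : G → ℂ) t ^ 2 / (χ : G → ℂ) 1 * gv f χ 0 = (r : ℂ) := by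
  set c : Subgroup.centralizer ({t} : Set G) → ℕ := fun w =>
    ((classFinset t ×ˢ classFinset t).filter fun u => u.1 * u.2 = (t * (w : G))⁻¹).card with hc
  set W := Finset.univ.filter fun w : Subgroup.centralizer ({t} : Set G) =>
    ¬ 2 ∣ orderOf w ∧ QuotientGroup.mk' N w = 1
  refine ⟨320 * (Nat.card (Subgroup.centralizer ({t} : Set G)) : ℚ)⁻¹ *
    ((∑ w ∈ W, c w : ℕ) * (Nat.card G : ℚ) / ((Subgroup.centralizer ({t} : Set G)).index : ℚ) ^ 2), ?_, ?_⟩
  · have h1 : 1 ∈ W := Finset.mem_filter.2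
      ⟨Finset.mem_univ _, by rw [orderOf_one]; norm_num, map_one _⟩
    have h2 : 0 < c 1 := by
      obtain ⟨a, b, ha, hb, hab⟩ := L.pair
      refine Finset.card_pos.2 ⟨(a, b), Finset.mem_filter.2 ⟨Finset.mem_product.2
        ⟨mem_classFinset.2 ha, mem_classFinset.2 hb⟩, ?_⟩⟩
      rw [OneMemClass.coe_one, mul_one, inv_eq_of_mul_eq_one_right L.t_mul_t]
      exact hab
    have h3 : 0 < ∑ w ∈ W, c w := lt_of_lt_of_le h2 (Finset.single_le_sum (fun w _ => Nat.zero_le (c w)) h1)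
    have h4 : 0 < (Subgroup.centralizer ({t} : Set G)).index := Nat.pos_of_ne_zero Subgroup.index_ne_zero_of_finite
    have h5 : 0 < Nat.card (Subgroup.centralizer ({t} : Set G)) := Nat.card_pos
    have h6 : 0 < Nat.card G := Nat.card_pos
    exact mul_pos (mul_pos (by norm_num) (inv_pos.2 (Nat.cast_pos.2 h5)))
      (div_pos (mul_pos (Nat.cast_pos.2 h3) (Nat.cast_pos.2 h6)) (pow_pos (Nat.cast_pos.2 h4) 2))
  · rw [L.rec_gv hM (by norm_num : 0 < 5), if_pos rfl]
    rw [Rat.cast_mul, Rat.cast_mul, Rat.cast_div, Rat.cast_mul, Rat.cast_pow, Rat.cast_inv, Rat.cast_natCast,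
      Rat.cast_natCast, Rat.cast_natCast, Rat.cast_natCast, Nat.cast_sum, Rat.cast_ofNat, Finset.sum_mul,
      Finset.sum_div]
    exact congrArg _ (Finset.sum_congr rfl fun w _ => rfl)

end CfsgLib.Recog.UFourSylow.Block
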