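import Cfsg.Agent.Lib.Blocks.SubsectionNorms
import Cfsg.Agent.Lib.Blocks.Principal
import Cfsg.Agent.Lib.Blocks.Order443520.Tools
import Cfsg.Agent.Lib.Char.Rationality

set_option autoImplicit false

/-!
Tools for integer rows of a principal two-block (owner: helper25): products in a section and across sections,
sums weighted by the values at an involution as projections of pair counts, multiplicities in subgroups.
-/

namespace CfsgLib.Recog.UFourSylow.Block

open Cfsg CfsgLib CfsgLib.Char CfsgLib.CharIntegral CfsgLib.Blocks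
open scoped Classical ComplexConjugate

variable {G : Type*} [Group G]

/-- The multiplicity of a linear character in a restriction is a natural number. -/
theorem exists_nat_mult [Finite G] (χ : IrrCharacter G) (A : Subgroup G) [Fintype A] (l : A →* ℂˣ) :
    ∃ m : ℕ, ∑ a : A, ((l a : ℂˣ) : ℂ) * (χ : G → ℂ) (a : G) = (Nat.card A : ℂ) * m := by
  obtain ⟨n, ρ, -, hρ⟩ := χ.2
  let τ : Representation ℂ A (Fin n → ℂ) :=
    { toFun := fun a => ((l a : ℂˣ) : ℂ) • ρ (a : G)
      map_one' := by simp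
      map_mul' := fun a b => by
        rw [map_mul, Units.val_mul, Subgroup.coe_mul, map_mul, smul_mul_smul_comm] }
  have hτ : ∀ a, τ.character a = ((l a : ℂˣ) : ℂ) * (χ : G → ℂ) (a : G) := fun a => by
    rw [← hρ]
    simp [Representation.character, τ]
  let : Invertible (Nat.card A : ℂ) := invertibleOfNonzero (Nat.cast_ne_zero.2 Nat.card_pos.ne')
  refine ⟨Module.finrank ℂ (Representation.invariants τ), ?_⟩
  have h := FDRep.average_char_eq_finrank_invariants (FDRep.of τ)
  rw [inv_mul_eq_iff_eq_mul₀ (Nat.cast_ne_zero.2 Nat.card_pos.ne')] at h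
  simp only [← hτ]
  exact h

/-- A value shared by the powers prime to the group order is an integer. -/
theorem exists_int_value [Finite G] (χ : IrrCharacter G) (g : G)
    (h : ∀ m : ℕ, m.Coprime (Nat.card G) → (χ : G → ℂ) (g ^ m) = (χ : G → ℂ) g) :
    ∃ z : ℤ, (χ : G → ℂ) g = z := by
  obtain ⟨n, ρ, -, hρ⟩ := χ.2
  obtain ⟨q, hq⟩ := CharRational.exists_rat_of_apply_pow_eq ρ g fun m hm => by rw [hρ]; exact h m hm
  obtain ⟨z, hz⟩ := IsIntegrallyClosed.isIntegral_iff.1 (show IsIntegral ℤ q from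
    (isIntegral_algebraMap_iff (A := ℚ) (B := ℂ) (algebraMap ℚ ℂ).injective).1 (by
      rw [eq_ratCast, ← hq]
      exact Char.isIntegral_character ρ g))
  exact ⟨z, by rw [← hρ, hq, ← hz]; simp⟩

variable [Fintype G] {M : Ideal AlgInt} [M.IsPrime] (hM : IsPModular 2 M)

/-- The characters of the principal block. -/
noncomputable def B0 (M : Ideal AlgInt) (K : Type*) [Group K] [Finite K] : Finset (IrrCharacter K) :=
  (Set.toFinite (principalBlock M K)).toFinset

omit [Fintype G] [M.IsPrime] in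
theorem mem_B0 [Finite G] {χ : IrrCharacter G} : χ ∈ B0 M G ↔ χ ∈ principalBlock M G :=
  Set.Finite.mem_toFinset _

include hM

/-- Products across two sections vanish. -/
theorem sum_sections_eq_zero {g h u v : G} (hu : IsPPart 2 g u) (hv : IsPPart 2 h v) (hne : ¬ IsConj u v) :
    ∑ χ ∈ B0 M G, (χ : G → ℂ) g * conj ((χ : G → ℂ) h) = 0 := by
  rw [← sum_block_apply_mul_eq_zero hM isPBlock_principalBlock hu hv hne,
    finsum_mem_eq_finite_toFinset_sum _ (Set.toFinite _)]
  exact Finset.sum_congr rfl fun χ _ => by rw [IsIrr.map_inv χ.2]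

omit [Fintype G] [M.IsPrime] hM in
/-- A product `y u` with `u` odd in the centralizer of the two-element `y` has two-part `y`. -/
theorem isPPart_mul {y : G} (hy : ∃ k : ℕ, orderOf y = 2 ^ k) {u : G} (hu : ¬ 2 ∣ orderOf u) (hc : Commute y u) :
    IsPPart 2 (y * u) y :=
  ⟨u, rfl, hc, hy, hu⟩

variable {y : G} (hy : ∃ k : ℕ, orderOf y = 2 ^ k)
include hy

/-- The products in one section are those of the principal block of the centralizer. -/
theorem sum_section_mul [Fintype (IrrCharacter (Subgroup.centralizer ({y} : Set G)))]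
    {u u' : Subgroup.centralizer ({y} : Set G)} (hu : ¬ 2 ∣ orderOf u) (hu' : ¬ 2 ∣ orderOf u') :
    ∑ χ ∈ B0 M G, (χ : G → ℂ) (y * (u : G)) * conj ((χ : G → ℂ) (y * (u' : G))) =
      ∑ ψ ∈ B0 M (Subgroup.centralizer ({y} : Set G)), (ψ : Subgroup.centralizer ({y} : Set G) → ℂ) u *
        conj ((ψ : Subgroup.centralizer ({y} : Set G) → ℂ) u') := by
  have : Fact (Nat.Prime 2) := ⟨Nat.prime_two⟩
  have := Fintype.ofFinite (IrrCharacter G)
  refine Eq.trans ?_ (sum_all_blockPart_mul hM hy isPBlock_principalBlock hu hu')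
  simp only [blockPart_principal_translate hM hy _ hu, blockPart_principal_translate hM hy _ hu']
  rw [← Finset.sum_filter_add_sum_filter_not Finset.univ (fun χ => χ ∈ principalBlock M G),
    Finset.sum_eq_zero (s := Finset.univ.filter fun χ => ¬ χ ∈ principalBlock M G) fun χ hχ => ?_, add_zero]
  · refine Finset.sum_congr ?_ fun χ hχ => ?_
    · ext χ; simp [mem_B0]
    · rw [if_pos (Finset.mem_filter.1 hχ).2, if_pos (Finset.mem_filter.1 hχ).2]
  · rw [if_neg (Finset.mem_filter.1 hχ).2, zero_mul]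

/-- The pairs of conjugates of `t` with product `g⁻¹`, times the group order, divided by the squared class size. -/
noncomputable def pairs (t g : G) : ℂ :=
  ((((classFinset t) ×ˢ (classFinset t)).filter fun u => u.1 * u.2 = g⁻¹).card : ℂ) * (Nat.card G : ℂ) /
    ((Subgroup.centralizer ({t} : Set G)).index : ℂ) ^ 2

omit hM hy [M.IsPrime] in
theorem pairs_eq [Fintype (IrrCharacter G)] (t g : G) :
    pairs t g = ∑ χ : IrrCharacter G, (χ : G → ℂ) t ^ 2 / (χ : G → ℂ) 1 * (χ : G → ℂ) g := by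
  have h := Order443520.card_pairs t g⁻¹
  rw [inv_inv] at h
  rw [pairs, h, mul_div_cancel_left₀]
  exact pow_ne_zero _ (Nat.cast_ne_zero.2 Subgroup.index_ne_zero_of_finite)

/-- The sum over the principal block is the projection of the pair counts. -/
theorem recip_translate (t : G) {u : Subgroup.centralizer ({y} : Set G)} (hu : ¬ 2 ∣ orderOf u) :
    ∑ χ ∈ B0 M G, (χ : G → ℂ) t ^ 2 / (χ : G → ℂ) 1 * (χ : G → ℂ) (y * (u : G)) =
      (Nat.card (Subgroup.centralizer ({y} : Set G)) : ℂ)⁻¹ *
        ∑ w ∈ Finset.univ.filter (fun w : Subgroup.centralizer ({y} : Set G) => ¬ 2 ∣ orderOf w),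
          pairs t (y * (w : G)) * ∑ ψ ∈ B0 M (Subgroup.centralizer ({y} : Set G)), (ψ : Subgroup.centralizer ({y} : Set G) → ℂ) u *
            conj ((ψ : Subgroup.centralizer ({y} : Set G) → ℂ) w) := by
  have : Fact (Nat.Prime 2) := ⟨Nat.prime_two⟩
  have := Fintype.ofFinite (IrrCharacter G)
  have := Fintype.ofFinite (IrrCharacter (Subgroup.centralizer ({y} : Set G)))
  set a : IrrCharacter G → ℂ := fun χ => (χ : G → ℂ) t ^ 2 / (χ : G → ℂ) 1
  have e1 : ∑ χ ∈ B0 M G, a χ * (χ : G → ℂ) (y * (u : G)) = ∑ χ : IrrCharacter G,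
      a χ * blockPart (principalBlock M (Subgroup.centralizer ({y} : Set G)))
        (fun c => (χ : G → ℂ) (y * (c : G))) u := by
    simp only [blockPart_principal_translate hM hy _ hu, mul_ite, mul_zero, ← Finset.sum_filter]
    exact Finset.sum_congr (by ext; simp [mem_B0]) fun _ _ => rfl
  refine e1.trans ?_
  simp only [blockPart_apply, Finset.mul_sum]
  rw [Finset.sum_comm, Finset.sum_filter]
  refine Finset.sum_congr rfl fun w _ => ?_
  split_ifs with hw
  · refine Finset.sum_eq_zero fun χ _ => ?_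
    rw [sum_block_regular_singular hM isPBlock_principalBlock hu (by rw [orderOf_inv]; exact hw)]
    ring
  · simp only [pairs_eq, finsum_mem_eq_finite_toFinset_sum _ (Set.toFinite _), Finset.sum_mul, Finset.mul_sum]
    rw [Finset.sum_comm]
    refine Finset.sum_congr rfl fun χ _ => Finset.sum_congr rfl fun ψ _ => ?_
    rw [IsIrr.map_inv χ.2]
    ring

omit hM [M.IsPrime] in
/-- A pair with product in the section of `y` gives an element of the class of `t` inverting `y` and the odd part. -/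
theorem exists_inverting {t : G} (ht : t * t = 1) {w : G} (hw : ¬ 2 ∣ orderOf w) (hc : Commute y w)
    (h : pairs t (y * w) ≠ 0) :
    ∃ a, IsConj t a ∧ a * y * a⁻¹ = y⁻¹ ∧ a * w * a⁻¹ = w⁻¹ := by
  have hne : (((classFinset t) ×ˢ (classFinset t)).filter fun u => u.1 * u.2 = (y * w)⁻¹).Nonempty := by
    rw [← Finset.card_pos]
    by_contra h0
    exact h (by rw [pairs, Nat.eq_zero_of_not_pos h0, Nat.cast_zero, zero_mul, zero_div])
  obtain ⟨⟨a, b⟩, hab⟩ := hne
  obtain ⟨hab, e⟩ := Finset.mem_filter.1 hab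
  obtain ⟨ha, hb⟩ := Finset.mem_product.1 hab
  have hsq : ∀ c, IsConj t c → c * c = 1 := fun c hc => by
    obtain ⟨x, rfl⟩ := isConj_iff.1 hc
    rw [show x * t * x⁻¹ * (x * t * x⁻¹) = x * (t * t) * x⁻¹ by group, ht, mul_one, mul_inv_cancel]
  have haa := hsq a (mem_classFinset.1 ha)
  have hbb := hsq b (mem_classFinset.1 hb)
  have hinv : a * (y * w) * a⁻¹ = (y * w)⁻¹ := by
    have eg : y * w = b * a := by
      rw [← inv_inv (y * w), ← e, mul_inv_rev, inv_eq_of_mul_eq_one_right haa, inv_eq_of_mul_eq_one_right hbb]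
    rw [← e, eg, inv_eq_of_mul_eq_one_right haa]
    show a * (b * a) * a = a * b
    rw [mul_assoc, mul_assoc b, haa, mul_one]
  obtain ⟨k, hk⟩ := hy
  refine ⟨a, mem_classFinset.1 ha, ?_⟩
  have h1 : a * y * a⁻¹ = y⁻¹ := by
    refine eq_of_pow_eq_pow Nat.prime_two (m := orderOf w) ?_ ⟨k, by rw [orderOf_inv, hk]⟩ hw ?_
    · exact ⟨k, by rw [show a * y * a⁻¹ = MulAut.conj a y from rfl, MulEquiv.orderOf_eq, hk]⟩
    · have e2 := congrArg (· ^ orderOf w) hinv
      simp only [conj_pow, inv_pow] at e2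
      rw [hc.mul_pow, pow_orderOf_eq_one, mul_one] at e2
      rw [conj_pow, inv_pow, e2]
  refine ⟨h1, ?_⟩
  have e3 : a * (y * w) * a⁻¹ = (a * y * a⁻¹) * (a * w * a⁻¹) := by group
  rw [hinv, h1, hc.eq, mul_inv_rev] at e3
  exact (mul_left_cancel e3).symm

/-- The sum vanishes if no conjugate of the involution inverts `y`. -/
theorem recip_eq_zero {t : G} (ht : t * t = 1) (hno : ∀ a, IsConj t a → a * y * a⁻¹ ≠ y⁻¹)
    {u : Subgroup.centralizer ({y} : Set G)} (hu : ¬ 2 ∣ orderOf u) :
    ∑ χ ∈ B0 M G, (χ : G → ℂ) t ^ 2 / (χ : G → ℂ) 1 * (χ : G → ℂ) (y * (u : G)) = 0 := by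
  rw [recip_translate hM hy t hu, Finset.sum_eq_zero fun w hw => ?_, mul_zero]
  rw [show pairs t (y * (w : G)) = 0 from ?_, zero_mul]
  by_contra h
  obtain ⟨a, ha, hay, -⟩ := exists_inverting hy ht (w := (w : G))
    (by rw [Subgroup.orderOf_coe]; exact (Finset.mem_filter.1 hw).2)
    (Subgroup.mem_centralizer_singleton_iff.1 w.2).symm h
  exact hno a ha hay

end CfsgLib.Recog.UFourSylow.Block
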